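import Cfsg.Agent.Lib.Solvable.Carter
import Cfsg.Agent.Lib.Solvable.SchurZassenhaus
import Cfsg.Agent.Lib.LocalEven.Involvement
import Mathlib.GroupTheory.SemidirectProduct

/-! Operator groups with a coprime normal part and a nilpotent supplement: fixed point freeness passes to
quotients by soluble invariant subgroups. -/

set_option autoImplicit false

open scoped Pointwise

namespace Cfsg.Agent.FpfS3Free

universe u v w

variable {G : Type u} [Group G] {A : Type v} [Group A] (φ : A →* MulAut G)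

theorem apply_inv_apply (a : A) (x : G) : φ a (φ a⁻¹ x) = x := by
  rw [← MulAut.mul_apply, ← map_mul, mul_inv_cancel, map_one, MulAut.one_apply]

theorem inv_apply_apply (a : A) (x : G) : φ a⁻¹ (φ a x) = x := by
  rw [← MulAut.mul_apply, ← map_mul, inv_mul_cancel, map_one, MulAut.one_apply]

/-- The action restricted to an invariant subgroup. -/
def resAut (N : Subgroup G) (hN : ∀ a, ∀ x ∈ N, φ a x ∈ N) : A →* MulAut N where
  toFun a :=
    { toFun := fun x => ⟨φ a x, hN a x x.2⟩
      invFun := fun x => ⟨φ a⁻¹ x, hN a⁻¹ x x.2⟩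
      left_inv := fun x => Subtype.ext (inv_apply_apply φ a x)
      right_inv := fun x => Subtype.ext (apply_inv_apply φ a x)
      map_mul' := fun x y => Subtype.ext (map_mul (φ a) _ _) }
  map_one' := MulEquiv.ext fun x => Subtype.ext (show φ 1 (x : G) = x by rw [map_one, MulAut.one_apply])
  map_mul' a b := MulEquiv.ext fun x => Subtype.ext
    (show φ (a * b) (x : G) = φ a (φ b x) by rw [map_mul, MulAut.mul_apply])

@[simp] theorem resAut_coe (N : Subgroup G) (hN : ∀ a, ∀ x ∈ N, φ a x ∈ N) (a : A) (x : N) :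
    (resAut φ N hN a x : G) = φ a x := rfl

theorem map_eq_self {N : Subgroup G} (hN : ∀ a, ∀ x ∈ N, φ a x ∈ N) (a : A) :
    N.map (φ a).toMonoidHom = N :=
  le_antisymm (by rintro _ ⟨x, hx, rfl⟩; exact hN a x hx) fun x hx =>
    ⟨φ a⁻¹ x, hN a⁻¹ x hx, apply_inv_apply φ a x⟩

/-- The action on the quotient by an invariant normal subgroup. -/
def quotAut (N : Subgroup G) [N.Normal] (hN : ∀ a, ∀ x ∈ N, φ a x ∈ N) : A →* MulAut (G ⧸ N) where
  toFun a := QuotientGroup.congr N N (φ a) (map_eq_self φ hN a)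
  map_one' := MulEquiv.ext fun y => by
    induction y using QuotientGroup.induction_on with
    | _ x => exact congrArg QuotientGroup.mk (show φ 1 x = x by rw [map_one, MulAut.one_apply])
  map_mul' a b := MulEquiv.ext fun y => by
    induction y using QuotientGroup.induction_on with
    | _ x => exact congrArg QuotientGroup.mk (show φ (a * b) x = φ a (φ b x) by rw [map_mul, MulAut.mul_apply])

@[simp] theorem quotAut_mk (N : Subgroup G) [N.Normal] (hN : ∀ a, ∀ x ∈ N, φ a x ∈ N) (a : A) (x : G) :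
    quotAut φ N hN a (x : G ⧸ N) = ((φ a x : G) : G ⧸ N) := rfl

/-- The permutations `x ↦ n (k • x)`. -/
def affine (N : Subgroup G) (hN : ∀ a, ∀ x ∈ N, φ a x ∈ N) : N ⋊[resAut φ N hN] A →* Equiv.Perm G :=
  SemidirectProduct.lift ((MulAction.toPermHom G G).comp N.subtype) ((MulAut.toPerm G).comp φ) fun a => by
    refine MonoidHom.ext fun n => Equiv.ext fun x => ?_
    show φ a (n : G) * x = φ a ((n : G) * (φ a)⁻¹ x)
    rw [map_mul, MulAut.apply_inv_self]

/-- A coset of a soluble invariant subgroup fixed by a coprime operator group contains a fixed element. -/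
theorem exists_fixed_coset [Finite G] [Finite A] {N : Subgroup G} [N.Normal] (hsol : Group.IsSolvable N)
    (hN : ∀ a, ∀ x ∈ N, φ a x ∈ N) (hcop : (Nat.card A).Coprime (Nat.card N)) {g : G}
    (hg : ∀ a, g⁻¹ * φ a g ∈ N) : ∃ c : G, g⁻¹ * c ∈ N ∧ ∀ a, φ a c = c := by
  classical
  let P := N ⋊[resAut φ N hN] A
  haveI : Finite P := Finite.of_equiv (N × A) SemidirectProduct.equivProd.symm
  letI : MulAction P G := MulAction.compHom G (affine φ N hN)
  have hl : ∀ (n : N) (x : G), (SemidirectProduct.inl n : P) • x = n * x := fun n x => by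
    show affine φ N hN (SemidirectProduct.inl n) x = _
    rw [affine, SemidirectProduct.lift_inl]
    rfl
  have hr : ∀ (a : A) (x : G), (SemidirectProduct.inr a : P) • x = φ a x := fun a x => by
    show affine φ N hN (SemidirectProduct.inr a) x = _
    rw [affine, SemidirectProduct.lift_inr]
    rfl
  set K := (SemidirectProduct.inl : N →* P).range with hK
  set Q := (SemidirectProduct.inr : A →* P).range with hQ
  have hKn : K.Normal := by rw [hK, SemidirectProduct.range_inl_eq_ker_rightHom]; infer_instance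
  have hcop' : (Nat.card Q).Coprime (Nat.card K) := by
    rw [← Nat.card_congr (MonoidHom.ofInjective SemidirectProduct.inl_injective).toEquiv,
      ← Nat.card_congr (MonoidHom.ofInjective SemidirectProduct.inr_injective).toEquiv]
    exact hcop
  have hsK : Group.IsSolvable K :=
    haveI := hsol
    Group.isSolvable_of_surjective (f := (SemidirectProduct.inl : N →* P).rangeRestrict)
      (MonoidHom.rangeRestrict_surjective _)
  obtain ⟨⟨c, hc, hfix⟩, -⟩ := SchurZ.glauberman (G := P) (A := Q) (K := K)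
    (by rw [Subgroup.normalizer_eq_top]; exact le_top) hcop' (Or.inr hsK) {x : G | g⁻¹ * x ∈ N}
    ⟨g, by simp [N.one_mem]⟩ (by
      rintro _ ⟨a, rfl⟩ x (hx : g⁻¹ * x ∈ N)
      show g⁻¹ * _ ∈ N
      rw [hr, show g⁻¹ * φ a x = (g⁻¹ * φ a g) * φ a (g⁻¹ * x) by rw [map_mul, map_inv]; group]
      exact N.mul_mem (hg a) (hN a _ hx))
    (by
      rintro _ ⟨n, rfl⟩ x (hx : g⁻¹ * x ∈ N)
      show g⁻¹ * _ ∈ N
      rw [hl, show g⁻¹ * ((n : G) * x) = (g⁻¹ * n * (g⁻¹)⁻¹) * (g⁻¹ * x) by group]
      exact N.mul_mem ((inferInstance : N.Normal).conj_mem _ n.2 _) hx)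
    (by
      intro x hx y hy
      have h1 : y * x⁻¹ ∈ N := by
        rw [show y * x⁻¹ = g * ((g⁻¹ * y) * (g⁻¹ * x)⁻¹) * g⁻¹ by group]
        exact (inferInstance : N.Normal).conj_mem _ (N.mul_mem hy (N.inv_mem hx)) _
      exact ⟨_, ⟨⟨_, h1⟩, rfl⟩, by rw [hl]; exact inv_mul_cancel_right y x⟩)
  exact ⟨c, hc, fun a => by rw [← hr]; exact hfix _ ⟨a, rfl⟩⟩

/-- A nilpotent fixed-point-free operator group is fixed-point-free on soluble quotients. -/
theorem mem_of_nilpotent [Finite G] [Finite A] [Group.IsSolvable G] (hnil : Group.IsNilpotent A)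
    (hfpf : ∀ g : G, (∀ a, φ a g = g) → g = 1) {N : Subgroup G} [N.Normal] (hN : ∀ a, ∀ x ∈ N, φ a x ∈ N)
    {g : G} (hg : ∀ a, g⁻¹ * φ a g ∈ N) : g ∈ N := by
  let P := G ⋊[φ] A
  haveI : Finite P := Finite.of_equiv (G × A) SemidirectProduct.equivProd.symm
  have hP : Group.IsSolvable P := Group.isSolvable_of_ker_le_range SemidirectProduct.inl
    (SemidirectProduct.rightHom : P →* A) SemidirectProduct.range_inl_eq_ker_rightHom.ge
  set C := (SemidirectProduct.inr : A →* P).range with hC
  have hcar : Cfsg.IsCarterSubgroup C := by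
    refine ⟨Carter.isNilpotent_of_equiv (MonoidHom.ofInjective SemidirectProduct.inr_injective),
      le_antisymm (fun p hp => ?_) Subgroup.le_normalizer⟩
    obtain ⟨x, a⟩ := p
    have hp' : (SemidirectProduct.inl x : P) ∈ Subgroup.normalizer (C : Set P) := by
      have e : (SemidirectProduct.inl x : P) = ⟨x, a⟩ * (SemidirectProduct.inr a)⁻¹ := by
        rw [eq_mul_inv_iff_mul_eq, SemidirectProduct.mk_eq_inl_mul_inr]
      rw [e]
      exact mul_mem hp (inv_mem (Subgroup.le_normalizer ⟨a, rfl⟩))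
    have hx : x = 1 := hfpf x fun b => by
      obtain ⟨c, hc⟩ := (Subgroup.mem_normalizer_iff.1 hp' (SemidirectProduct.inr b)).1 ⟨b, rfl⟩
      have h1 := congrArg SemidirectProduct.left hc
      simp only [SemidirectProduct.left_inr, SemidirectProduct.mul_left, SemidirectProduct.inv_left,
        SemidirectProduct.left_inl, SemidirectProduct.right_inl, SemidirectProduct.right_inr,
        SemidirectProduct.mul_right, inv_one, map_one, MulAut.one_apply, one_mul, mul_one, map_inv] at h1
      exact (mul_inv_eq_one.1 h1.symm).symm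
    exact ⟨a, SemidirectProduct.ext (by simp [hx]) (by simp)⟩
  set M := N.map (SemidirectProduct.inl : G →* P) with hM
  have hMn : M.Normal := by
    refine ⟨fun m hm p => ?_⟩
    obtain ⟨n, hn, rfl⟩ := hm
    obtain ⟨x, a⟩ := p
    refine ⟨x * φ a n * x⁻¹, (inferInstance : N.Normal).conj_mem _ (hN a n hn) x, ?_⟩
    rw [SemidirectProduct.mk_eq_inl_mul_inr, map_mul, map_mul, map_inv, SemidirectProduct.inl_aut, map_inv]
    group
  have hmap := Carter.isCarter_map hcar M
  have hgn : QuotientGroup.mk' M (SemidirectProduct.inl g) ∈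
      Subgroup.normalizer ((C.map (QuotientGroup.mk' M) : Subgroup (P ⧸ M)) : Set (P ⧸ M)) := by
    refine Subgroup.centralizer_le_normalizer _ (Subgroup.mem_centralizer_iff.2 ?_)
    rintro _ ⟨_, ⟨a, rfl⟩, rfl⟩
    rw [← map_mul, ← map_mul]
    refine (QuotientGroup.eq.2 ?_).symm
    show _ ∈ N.map _
    refine ⟨φ a⁻¹ (g⁻¹ * φ a g), hN _ _ (hg a), ?_⟩
    rw [map_mul, map_inv, map_inv, MulAut.inv_apply_self, map_mul, map_inv, SemidirectProduct.inl_aut_inv, map_inv]
    group
  rw [hmap.2] at hgn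
  obtain ⟨_, ⟨a, rfl⟩, ha⟩ := hgn
  obtain ⟨n, hn, e⟩ := QuotientGroup.eq.1 ha.symm
  have h1 := congrArg SemidirectProduct.right e
  have h2 := congrArg SemidirectProduct.left e
  simp at h1 h2
  rw [show g = n⁻¹ by rw [h2, inv_inv]]
  exact N.inv_mem hn

/-- Fixed-point-freeness of `A = K H` on the quotient by a soluble invariant normal subgroup. -/
theorem quot_fpf [Finite G] [Finite A] {K H : Subgroup A} [K.Normal] (hnil : Group.IsNilpotent H)
    (hKH : K ⊔ H = ⊤) (hcop : (Nat.card K).Coprime (Nat.card G)) (hfpf : ∀ g : G, (∀ a, φ a g = g) → g = 1)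
    {N : Subgroup G} [N.Normal] (hsol : Group.IsSolvable N) (hN : ∀ a, ∀ x ∈ N, φ a x ∈ N) {g₀ : G}
    (hg₀ : ∀ a, g₀⁻¹ * φ a g₀ ∈ N) : g₀ ∈ N := by
  obtain ⟨g, hgg, hgK⟩ := exists_fixed_coset (φ.comp K.subtype) hsol (fun a => hN a)
    (hcop.coprime_dvd_right (Subgroup.card_subgroup_dvd_card N)) (g := g₀) (fun a => hg₀ a)
  suffices g ∈ N by
    rw [show g₀ = g * (g₀⁻¹ * g)⁻¹ by group]
    exact N.mul_mem this (N.inv_mem hgg)
  have hg : ∀ a, g⁻¹ * φ a g ∈ N := fun a => by
    rw [show g⁻¹ * φ a g = (g₀⁻¹ * g)⁻¹ * (g₀⁻¹ * φ a g₀) * φ a (g₀⁻¹ * g) by rw [map_mul, map_inv]; group]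
    exact N.mul_mem (N.mul_mem (N.inv_mem hgg) (hg₀ a)) (hN a _ hgg)
  -- the centraliser of `K`
  let C : Subgroup G :=
    { carrier := {x | ∀ k ∈ K, φ k x = x}
      one_mem' := fun k _ => map_one _
      mul_mem' := fun hx hy k hk => by rw [map_mul, hx k hk, hy k hk]
      inv_mem' := fun hx k hk => by rw [map_inv, hx k hk] }
  have hC : ∀ h : H, ∀ x ∈ C, φ h x ∈ C := fun h x hx k hk => by
    have h1 := hx _ ((inferInstance : K.Normal).conj_mem k hk (h : A)⁻¹)
    calc φ k (φ h x) = φ h (φ ((h : A)⁻¹ * k * ((h : A)⁻¹)⁻¹) x) := by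
            simp only [← MulAut.mul_apply, ← map_mul]; congr 2; group
      _ = φ h x := by rw [h1]
  have hgC : g ∈ C := fun k hk => hgK ⟨k, hk⟩
  -- a soluble `H`-invariant subgroup containing `g`
  set W := (C ⊓ N) ⊔ Subgroup.zpowers g with hW
  have hWC : W ≤ C := sup_le inf_le_left (Subgroup.zpowers_le.2 hgC)
  have hWinv : ∀ h : H, ∀ x ∈ W, φ h x ∈ W := fun h => by
    suffices W.map (φ h).toMonoidHom ≤ W from fun x hx => this ⟨x, hx, rfl⟩
    rw [hW, Subgroup.map_sup, MonoidHom.map_zpowers]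
    refine sup_le ?_ (Subgroup.zpowers_le.2 ?_)
    · rintro _ ⟨x, hx, rfl⟩
      exact Subgroup.mem_sup_left ⟨hC h x hx.1, hN h x hx.2⟩
    · show φ h g ∈ _
      rw [show φ h g = g * (g⁻¹ * φ h g) by group]
      exact Subgroup.mul_mem _ (Subgroup.mem_sup_right (Subgroup.mem_zpowers g))
        (Subgroup.mem_sup_left ⟨C.mul_mem (C.inv_mem hgC) (hC h g hgC), hg h⟩)
  haveI : Group.IsSolvable W := by
    have hker : ((QuotientGroup.mk' N).comp W.subtype).ker = N.subgroupOf W := by
      rw [← MonoidHom.comap_ker, QuotientGroup.ker_mk']; rfl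
    haveI : Group.IsSolvable (N.subgroupOf W) := by
      haveI := hsol
      exact Group.isSolvable_of_isSolvable_injective
        (f := (W.subtype.comp (N.subgroupOf W).subtype).codRestrict N fun x => x.2)
        fun x y e => Subtype.ext (Subtype.ext (congrArg Subtype.val e :))
    have hrange : ((QuotientGroup.mk' N).comp W.subtype).range ≤ Subgroup.zpowers (g : G ⧸ N) := by
      rw [MonoidHom.range_comp, Subgroup.range_subtype, hW, Subgroup.map_sup, MonoidHom.map_zpowers]
      refine sup_le ?_ le_rfl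
      rintro _ ⟨x, hx, rfl⟩
      rw [show QuotientGroup.mk' N x = 1 from (QuotientGroup.eq_one_iff x).2 hx.2]
      exact one_mem _
    haveI : IsMulCommutative (Subgroup.zpowers (g : G ⧸ N)) := inferInstance
    haveI : Group.IsSolvable (Subgroup.zpowers (g : G ⧸ N)) := inferInstance
    exact Group.isSolvable_of_ker_le_range (N.subgroupOf W).subtype
      (((QuotientGroup.mk' N).comp W.subtype).codRestrict (Subgroup.zpowers (g : G ⧸ N))
        fun x => hrange ⟨x, rfl⟩) (by
      rw [MonoidHom.ker_codRestrict, hker, Subgroup.range_subtype])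
  have hmem := mem_of_nilpotent (resAut (φ.comp H.subtype) W hWinv) hnil (fun w hw => Subtype.ext (hfpf w ?_))
    (N := N.subgroupOf W) (fun h x hx => hN h x hx) (g := ⟨g, Subgroup.mem_sup_right (Subgroup.mem_zpowers g)⟩)
    (fun h => hg h)
  · exact hmem
  · have hle : K ⊔ H ≤ ((MulAction.stabilizer (MulAut G) (w : G)).comap φ) :=
      sup_le (fun k hk => hWC w.2 k hk) fun h hh => congrArg Subtype.val (hw ⟨h, hh⟩)
    exact fun a => hle (hKH.ge (Subgroup.mem_top a))

end Cfsg.Agent.FpfS3Free
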