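import Cfsg.Agent.Lib.AutPSL.Main
import Cfsg.Agent.Lib.AutPSL.Outer
import Cfsg.Agent.Lib.Suzuki.Out
import Cfsg.Agent.Lib.Suzuki.Minor
import Cfsg.Prelude.Def_LocalEven
import Mathlib.NumberTheory.LegendreSymbol.QuadraticChar.Basic

/-! Cyclic outer automorphism groups lifting to automorphisms with a common fixed point: the Suzuki groups
and `PSL₂` over a field with `3^(2n+1)` elements. -/

set_option autoImplicit false

namespace Cfsg.Agent.FpfS3Free

universe u v

/-- The automorphisms are inner times powers of one automorphism with a non-trivial fixed point. -/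
def FixOut (T : Type u) [Group T] : Prop :=
  ∃ (f : MulAut T) (x : T), x ≠ 1 ∧ f x = x ∧ ∀ β : MulAut T, ∃ (c : T) (j : ℕ), β = MulAut.conj c * f ^ j

theorem FixOut.transport {T : Type u} {S : Type v} [Group T] [Group S] (e : S ≃* T) (h : FixOut T) : FixOut S := by
  obtain ⟨f, x, hx, hfx, hall⟩ := h
  refine ⟨(MulAut.congr e).symm f, e.symm x, fun h1 => hx (e.symm.map_eq_one_iff.1 h1), ?_, fun β => ?_⟩
  · show e.symm (f (e (e.symm x))) = e.symm x
    rw [e.apply_symm_apply, hfx]
  · obtain ⟨c, j, hj⟩ := hall (MulAut.congr e β)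
    refine ⟨e.symm c, j, (MulAut.congr e).injective ?_⟩
    rw [hj, map_mul, map_pow, MulEquiv.apply_symm_apply]
    refine congrArg (· * f ^ j) (MulEquiv.ext fun y => ?_)
    show c * y * c⁻¹ = e (e.symm c * e.symm y * (e.symm c)⁻¹)
    rw [map_mul, map_mul, map_inv, e.apply_symm_apply, e.apply_symm_apply]

section Suzuki

open Cfsg.Agent.Suzuki

variable {F : Type*} [Field F] [Fintype F] {m : ℕ} (h : SzField F m)
include h

theorem frobAut_pow (j : ℕ) : frobAut h j = frobAut h 1 ^ j := by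
  have := h.charP
  induction j with
  | zero =>
    refine MulEquiv.ext fun g => Subtype.ext (Subtype.ext ?_)
    show (frobSL h 0 g.1).1 = g.1.1
    rw [frobSL_coe]
    ext a b
    simp
  | succ j ih =>
    rw [pow_succ', ← ih]
    refine MulEquiv.ext fun g => Subtype.ext (Subtype.ext ?_)
    show (frobSL h (j + 1) g.1).1 = (frobSL h 1 (frobSL h j g.1)).1
    rw [frobSL_coe, frobSL_coe, frobSL_coe]
    ext a b
    simp [← pow_mul, pow_succ]
    ring

theorem fixOut_sz : FixOut (Cfsg.Sz F m) := by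
  refine ⟨frobAut h 1, T h 0 1, fun e => one_ne_zero ((eq_one_iff_T h).1 e).2, ?_, fun β => ?_⟩
  · rw [frobAut_T, zero_pow (by norm_num), one_pow]
  · obtain ⟨j, -, c, hc⟩ := exists_inner_mul_frob h β
    exact ⟨c, j, by rw [hc, frobAut_pow h j]⟩

end Suzuki

section Linear

open Cfsg.Agent.AutPSL Matrix

variable {F : Type*} [Field F] [Fintype F]

theorem fixOut_psl {n : ℕ} (hF : Fintype.card F = 3 ^ (2 * n + 1)) :
    FixOut (ProjectiveSpecialLinearGroup (Fin 2) F) := by
  haveI : Fact (Nat.Prime 3) := ⟨Nat.prime_three⟩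
  classical
  obtain ⟨E⟩ := exists_ringAut_equiv 3 (2 * n + 1) hF
  haveI : Finite (F ≃+* F) := Finite.of_equiv _ E.symm.toEquiv
  obtain ⟨σ, hσ⟩ := ((E.isCyclic).2 inferInstance).exists_generator
  have hσf : σ ^ (2 * n + 1) = 1 := E.injective (by
    rw [map_pow, map_one]
    conv_lhs => arg 2; rw [show 2 * n + 1 = Nat.card (Multiplicative (ZMod (2 * n + 1))) by
      rw [Nat.card_congr Multiplicative.toAdd, Nat.card_zmod]]
    exact pow_card_eq_one')
  have h4 : ¬ IsSquare (-1 : F) := by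
    rw [FiniteField.isSquare_neg_one_iff, hF, not_not, pow_succ, pow_mul, Nat.mul_mod, Nat.pow_mod]
    norm_num
  -- the diagonal automorphism
  let δ : GL (Fin 2) F := GeneralLinearGroup.mkOfDetNeZero !![-1, 0; 0, 1] (by simp [det_fin_two])
  have hδc : (δ : Matrix (Fin 2) (Fin 2) F) = !![-1, 0; 0, 1] := rfl
  have hdet : (GeneralLinearGroup.det δ : F) = -1 := by
    show (δ : Matrix (Fin 2) (Fin 2) F).det = -1
    simp [hδc, det_fin_two]
  have hmap : ∀ τ : F ≃+* F, GeneralLinearGroup.map τ.toRingHom δ = δ := fun τ => Units.ext (by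
    show (δ : Matrix (Fin 2) (Fin 2) F).map τ = δ
    rw [hδc]
    ext a b
    fin_cases a <;> fin_cases b <;> simp)
  have hone : ∀ τ : F ≃+* F, GeneralLinearGroup.map τ.toRingHom (1 : GL (Fin 2) F) = 1 := fun τ => map_one _
  set P : MulAut (ProjectiveSpecialLinearGroup (Fin 2) F) := semi δ 1 with hP
  set Q : MulAut (ProjectiveSpecialLinearGroup (Fin 2) F) := semi 1 σ with hQ
  have hPQ : Commute P Q := by
    show P * Q = Q * P
    rw [hP, hQ, semi_mul, semi_mul, hmap, hone, mul_one, one_mul, one_mul, mul_one]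
  have hP2 : P ^ 2 = 1 := by
    rw [hP, pow_two, semi_mul, hmap, one_mul, ← semi_one]
    congr 1
    refine Units.ext ?_
    rw [Units.val_mul, Units.val_one, hδc]
    ext a b
    fin_cases a <;> fin_cases b <;> simp [mul_apply, Fin.sum_univ_two]
  have hQp : ∀ k : ℕ, semi (1 : GL (Fin 2) F) (σ ^ k) = Q ^ k := by
    intro k
    induction k with
    | zero => rw [pow_zero, pow_zero, semi_one]
    | succ k ih => rw [pow_succ' Q, ← ih, hQ, semi_mul, hone, one_mul, pow_succ']
  have hQf : Q ^ (2 * n + 1) = 1 := by rw [← hQp, hσf, semi_one]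
  obtain ⟨w, hw⟩ : ∃ w : SpecialLinearGroup (Fin 2) F, (w : Matrix (Fin 2) (Fin 2) F) = !![0, 1; -1, 0] :=
    ⟨⟨_, by simp [det_fin_two]⟩, rfl⟩
  refine ⟨P * Q, (QuotientGroup.mk w : ProjectiveSpecialLinearGroup (Fin 2) F), fun h1 => ?_, ?_, fun β => ?_⟩
  · rw [QuotientGroup.eq_one_iff, Matrix.SpecialLinearGroup.mem_center_iff] at h1
    obtain ⟨r, -, hr⟩ := h1
    have := congrFun (congrFun hr 0) 1
    rw [hw] at this
    simp at this
  · rw [hP, hQ, semi_mul, hone, mul_one, one_mul, semi_mk]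
    refine mk_eq_mk_of_smul (c := (-1 : F)) ?_ |>.symm
    rw [slSemi_coe, hw]
    ext a b
    fin_cases a <;> fin_cases b <;>
      simp [δ, GeneralLinearGroup.mkOfDetNeZero, mul_apply, Fin.sum_univ_two, Matrix.coe_units_inv, inv_def,
        det_fin_two, adjugate_fin_two, Matrix.vecMul, dotProduct]
  obtain ⟨g, τ, h | ⟨h3, -⟩⟩ := aut_eq (le_refl 2) β
  swap
  · omega
  subst h
  obtain ⟨k, hk⟩ : ∃ k : ℕ, σ ^ k = τ := (mem_powers_iff_mem_zpowers.2 (hσ τ) : τ ∈ Submonoid.powers σ)
  -- inner times a power of the diagonal automorphism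
  obtain ⟨c, i, hc⟩ : ∃ (c : ProjectiveSpecialLinearGroup (Fin 2) F) (i : ℕ), semi g 1 = MulAut.conj c * P ^ i := by
    obtain ⟨u, hu⟩ : ∃ u : Fˣ, u ^ 2 = GeneralLinearGroup.det g ∨ u ^ 2 = - GeneralLinearGroup.det g := by
      have ha0 : (GeneralLinearGroup.det g : F) ≠ 0 := Units.ne_zero _
      have h2 : ringChar F ≠ 2 := fun h2 => h4 (FiniteField.isSquare_of_char_two h2 _)
      have hor : IsSquare (GeneralLinearGroup.det g : F) ∨ IsSquare (-(GeneralLinearGroup.det g : F)) := by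
        by_contra hcon
        push Not at hcon
        have e := map_mul (quadraticChar F) (-1) (GeneralLinearGroup.det g : F)
        rw [neg_one_mul, (quadraticChar_neg_one_iff_not_isSquare).2 h4,
          (quadraticChar_neg_one_iff_not_isSquare).2 hcon.1, (quadraticChar_neg_one_iff_not_isSquare).2 hcon.2] at e
        norm_num at e
      rcases hor with ⟨u, hu⟩ | ⟨u, hu⟩ <;>
        have hu0 : u ≠ 0 := fun e => by simp [e] at hu; exact ha0 (by simpa using hu)
      · exact ⟨Units.mk0 u hu0, Or.inl (Units.ext (by simp [pow_two, hu]))⟩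
      · exact ⟨Units.mk0 u hu0, Or.inr (Units.ext (by rw [Units.val_pow_eq_pow_val, Units.val_neg, pow_two]; exact hu.symm))⟩
    rcases hu with hu | hu
    · obtain ⟨c, hc⟩ := (semi_mem_inn (le_refl 2) g).2 ⟨u, hu⟩
      exact ⟨c, 0, by rw [pow_zero, mul_one, hc]⟩
    · obtain ⟨c, hc⟩ := (semi_mem_inn (le_refl 2) (g * δ)).2 ⟨u, by
        show u ^ 2 = _
        rw [map_mul, hu]
        exact Units.ext (by rw [Units.val_neg, Units.val_mul, hdet, mul_neg_one])⟩
      refine ⟨c, 1, ?_⟩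
      rw [pow_one, hc, hP]
      have e : semi δ 1 * semi δ 1 = (1 : MulAut (ProjectiveSpecialLinearGroup (Fin 2) F)) := by
        rw [← pow_two]; exact hP2
      calc (semi g 1 : MulAut (ProjectiveSpecialLinearGroup (Fin 2) F))
          = semi g 1 * (semi δ 1 * semi δ 1) := by rw [e, mul_one]
        _ = _ := by rw [← mul_assoc, semi_mul, one_mul]; rfl
  refine ⟨c, i * (2 * n + 1) + k * (2 * n + 2), ?_⟩
  have hPQi : (P * Q) ^ (i * (2 * n + 1) + k * (2 * n + 2)) = P ^ i * Q ^ k := by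
    have e1 : P ^ (i * (2 * n + 1) + k * (2 * n + 2)) = P ^ i := by
      rw [show i * (2 * n + 1) + k * (2 * n + 2) = i + 2 * (i * n + k * (n + 1)) by ring, pow_add, pow_mul, hP2,
        one_pow, mul_one]
    have e2 : Q ^ (i * (2 * n + 1) + k * (2 * n + 2)) = Q ^ k := by
      rw [show i * (2 * n + 1) + k * (2 * n + 2) = k + (2 * n + 1) * (i + k) by ring, pow_add, pow_mul, hQf,
        one_pow, mul_one]
    rw [hPQ.mul_pow, e1, e2]
  rw [hPQi, ← mul_assoc, ← hc, ← hQp, hk, semi_mul, show GeneralLinearGroup.map (1 : F ≃+* F).toRingHom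
    (1 : GL (Fin 2) F) = 1 from map_one _, mul_one, one_mul]

end Linear

theorem fixOut_of_target {T : Type u} [Group T] (h : Cfsg.IsSuzukiOrPSL2OddPowerThree T) : FixOut T := by
  rcases h with ⟨F, _, _, m, hm, hF, ⟨e⟩⟩ | ⟨F, _, _, n, hF, ⟨e⟩⟩
  · have h : Suzuki.SzField F m := ⟨hm, hF⟩
    exact (fixOut_sz h).transport (e.trans (Suzuki.minorEquiv h).symm)
  · exact (fixOut_psl hF).transport e

end Cfsg.Agent.FpfS3Free
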