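import Cfsg.Agent.Lib.FpfS3Free.Main
import Cfsg.Agent.Lib.GoldGroups.SFourFree

/-! The simple groups without a section `S₃` from the Goldschmidt group inputs. -/

set_option autoImplicit false

namespace Cfsg.Agent.FpfS3Free

open Cfsg.Agent.GoldGroups

universe u

theorem sFreeSimple_of (hC : ClosedAbelianSimple.{u}) (hW : WalterGood.{u}) (hNF : RJNoField.{u}) :
    SFreeSimple.{u} := fun T _ _ _ hna h3 =>
  (Cfsg.Agent.S2755.result (gold_of_sfour_free hC hW hNF hna fun h4 => h3 (sFour_to_sThree h4))).2.1 h3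

end Cfsg.Agent.FpfS3Free
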