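import Cfsg.Agent.Lib.FpfS3Free.Fixed
import Cfsg.Agent.Lib.Solvable.Structure
import Cfsg.Agent.Lib.Solvable.SchurZassenhaus

/-! A group of automorphisms of a simple group with cyclic outer automorphism group, with a normal coprime
subgroup of nilpotent index, fixes a non-identity element. -/

set_option autoImplicit false

namespace Cfsg.Agent.FpfS3Free

universe u

variable {T : Type u} [Group T] [Finite T]

theorem fixed_of_isFixOut (hT : FixOut T) (hZ : Subgroup.center T = ⊥) (B : Subgroup (MulAut T))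
    (K : Subgroup B) [K.Normal] [Group.IsNilpotent (B ⧸ K)] (hcop : (Nat.card K).Coprime (Nat.card T)) :
    ∃ x : T, x ≠ 1 ∧ ∀ b ∈ B, b x = x := by
  haveI : Finite (MulAut T) := Finite.of_injective _ MulEquiv.toEquiv_injective
  have hinn : ∀ (β : MulAut T) (c : T), β * MulAut.conj c * β⁻¹ = MulAut.conj (β c) := fun β c =>
    MulEquiv.ext fun y => by
      show β (c * β⁻¹ y * c⁻¹) = β c * y * (β c)⁻¹
      rw [map_mul, map_mul, map_inv, MulAut.apply_inv_self]
  set I := (MulAut.conj : T →* MulAut T).range with hI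
  haveI : I.Normal := ⟨by
    rintro _ ⟨c, rfl⟩ β
    exact ⟨β c, (hinn β c).symm⟩⟩
  set M := I.subgroupOf B with hM
  have hMT : Nat.card M ∣ Nat.card T := by
    rw [← Subgroup.card_map_of_injective B.subtype_injective]
    refine (Subgroup.card_dvd_of_le (show M.map B.subtype ≤ I from ?_)).trans (Subgroup.card_range_dvd _)
    rintro _ ⟨x, hx, rfl⟩
    exact hx
  have hMK : M ⊓ K = ⊥ := SchurZ.inf_eq_bot (hcop.coprime_dvd_right hMT)
  by_cases hMb : M = ⊥
  · -- `B` is cyclic
    obtain ⟨f, x, hx1, hfx, hall⟩ := hT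
    let q := QuotientGroup.mk' I
    have hmem : ∀ b : B, q (b : MulAut T) ∈ Subgroup.zpowers (q f) := fun b => by
      obtain ⟨c, j, hj⟩ := hall b
      rw [hj, map_mul, map_pow, show q (MulAut.conj c) = 1 from (QuotientGroup.eq_one_iff _).2 ⟨c, rfl⟩, one_mul]
      exact Subgroup.npow_mem_zpowers _ _
    haveI : IsCyclic B := isCyclic_of_injective ((q.comp B.subtype).codRestrict _ hmem) (by
      rw [injective_iff_map_eq_one]
      intro b hb
      have h1 : b ∈ M := (QuotientGroup.eq_one_iff (b : MulAut T)).1 (congrArg Subtype.val hb)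
      rw [hMb] at h1
      exact h1)
    obtain ⟨b, hb⟩ := IsCyclic.exists_generator (α := B)
    suffices ∃ y : T, y ≠ 1 ∧ (b : MulAut T) y = y by
      obtain ⟨y, hy1, hy⟩ := this
      refine ⟨y, hy1, fun b' hb' => ?_⟩
      obtain ⟨i, hi⟩ := hb ⟨b', hb'⟩
      have hle : Subgroup.zpowers (b : MulAut T) ≤ MulAction.stabilizer (MulAut T) y :=
        Subgroup.zpowers_le.2 hy
      refine hle ⟨i, ?_⟩
      show (b : MulAut T) ^ i = b'
      rw [← Subgroup.coe_zpow]
      exact congrArg Subtype.val hi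
    by_contra hno
    push Not at hno
    have hbij : Function.Surjective (fun t => t⁻¹ * (b : MulAut T) t) := by
      refine Finite.surjective_of_injective fun s t e => ?_
      have h1 : (b : MulAut T) (s * t⁻¹) = s * t⁻¹ := by
        have e' : s⁻¹ * (b : MulAut T) s = t⁻¹ * (b : MulAut T) t := e
        rw [map_mul, map_inv, show (b : MulAut T) s = s * (t⁻¹ * (b : MulAut T) t) by rw [← e', mul_inv_cancel_left]]
        group
      by_contra hne
      exact hno _ (fun h => hne (mul_inv_eq_one.1 h)) h1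
    obtain ⟨u, j, hj⟩ := hall b
    obtain ⟨s, hs⟩ := hbij u⁻¹
    have hjx : (f ^ j) x = x := by
      clear hj
      induction j with
      | zero => rfl
      | succ j ih => rw [pow_succ, MulAut.mul_apply, hfx, ih]
    have hbx : (b : MulAut T) x = u * x * u⁻¹ := by rw [hj, MulAut.mul_apply, hjx]; rfl
    refine hno (s * x * s⁻¹) (fun h => hx1 (conj_eq_one_iff.1 h)) ?_
    have hbs : (b : MulAut T) s = s * u⁻¹ := by rw [← show s⁻¹ * (b : MulAut T) s = u⁻¹ from hs, mul_inv_cancel_left]
    rw [map_mul, map_mul, map_inv, hbx, hbs]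
    group
  · -- an inner automorphism is central
    have hne : M.map (QuotientGroup.mk' K) ≠ ⊥ := fun h => hMb (by
      rw [Subgroup.map_eq_bot_iff, QuotientGroup.ker_mk'] at h
      rwa [inf_eq_left.2 h] at hMK)
    haveI : (M.map (QuotientGroup.mk' K)).Normal := Subgroup.Normal.map inferInstance _ (QuotientGroup.mk'_surjective K)
    obtain ⟨z, hz, hz1⟩ := Subgroup.ne_bot_iff_exists_ne_one.1 (SolvStruct.inf_center_ne_bot hne) |> fun ⟨z, h⟩ =>
      (⟨z.1, z.2, fun e => h (Subtype.ext e)⟩ : ∃ z, z ∈ M.map (QuotientGroup.mk' K) ⊓ Subgroup.center (B ⧸ K) ∧ z ≠ 1)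
    obtain ⟨⟨m, hm, rfl⟩, hzc⟩ := hz
    obtain ⟨c, hc⟩ := hm
    refine ⟨c, fun h => hz1 ?_, fun b hb => ?_⟩
    · rw [show m = 1 from Subtype.ext (by rw [h, map_one] at hc; exact hc.symm), map_one]
    have hcomm : (⟨b, hb⟩ : B) * m * (⟨b, hb⟩ : B)⁻¹ * m⁻¹ ∈ M ⊓ K := by
      refine ⟨M.mul_mem ((inferInstance : M.Normal).conj_mem m ⟨c, hc⟩ _) (M.inv_mem ⟨c, hc⟩), ?_⟩
      refine (QuotientGroup.eq_one_iff _).1 (show QuotientGroup.mk' K _ = 1 from ?_)
      rw [map_mul, map_mul, map_mul, Subgroup.mem_center_iff.1 hzc]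
      simp
    rw [hMK, Subgroup.mem_bot] at hcomm
    have e : b * MulAut.conj c * b⁻¹ = MulAut.conj c := by
      have e1 := congrArg Subtype.val (mul_inv_eq_one.1 hcomm)
      rw [hc]
      simpa using e1
    rw [hinn] at e
    have e2 : c⁻¹ * b c ∈ Subgroup.center T := Subgroup.mem_center_iff.2 fun y => by
      have e3 : b c * y * (b c)⁻¹ = c * y * c⁻¹ := congrArg (fun g : MulAut T => g y) e
      calc y * (c⁻¹ * b c) = c⁻¹ * (c * y * c⁻¹) * b c := by group
        _ = c⁻¹ * (b c * y * (b c)⁻¹) * b c := by rw [e3]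
        _ = _ := by group
    rw [hZ, Subgroup.mem_bot, inv_mul_eq_one] at e2
    exact e2.symm

end Cfsg.Agent.FpfS3Free
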