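import Cfsg.Agent.Lib.FpfS3Free.Action
import Cfsg.Agent.Lib.FpfS3Free.Key
import Cfsg.Prelude.Def_OddOrderLocal
import Mathlib.GroupTheory.SpecificGroups.Alternating

/-! `S₃`-free groups with a fixed-point-free operator group `A = K H`, `K` normal of coprime order and `H`
nilpotent, are soluble, given the list of the simple `S₃`-free groups. -/

set_option autoImplicit false

open scoped Pointwise

namespace Cfsg.Agent.FpfS3Free

universe u v

/-- The non-abelian simple groups without a section `S₃`. -/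
def SFreeSimple : Prop :=
  ∀ (T : Type u) [Group T] [Finite T] [IsSimpleGroup T], ¬ IsMulCommutative T →
    ¬ Cfsg.Involves (Equiv.Perm (Fin 3)) T → Cfsg.IsSuzukiOrPSL2OddPowerThree T

theorem free_subgroup {G : Type u} [Group G] (H : Subgroup G) (h : ¬ Cfsg.Involves (Equiv.Perm (Fin 3)) G) :
    ¬ Cfsg.Involves (Equiv.Perm (Fin 3)) H := fun hh => by
  obtain ⟨K, ψ, hψ⟩ := LEInvolve.exists_hom_of_involves hh
  refine h (LEInvolve.involves_of_hom (H.subtype.comp K.subtype) ψ hψ fun x hx => ?_)
  rw [show x = 1 from Subtype.ext (Subtype.ext hx)]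
  exact one_mem _

theorem free_quotient {G : Type u} [Group G] (N : Subgroup G) [N.Normal]
    (h : ¬ Cfsg.Involves (Equiv.Perm (Fin 3)) G) : ¬ Cfsg.Involves (Equiv.Perm (Fin 3)) (G ⧸ N) := fun hh => by
  obtain ⟨K, ψ, hψ⟩ := LEInvolve.exists_hom_of_involves hh
  let q := QuotientGroup.mk' N
  refine h (LEInvolve.involves_of_hom (K.comap q).subtype (ψ.comp (q.subgroupComap K))
    (hψ.comp (q.subgroupComap_surjective_of_surjective K (QuotientGroup.mk'_surjective _))) fun x hx => ?_)
  rw [show x = 1 from Subtype.ext hx]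
  exact one_mem _

variable {A : Type v} [Group A] [Finite A]

/-- The case without invariant normal subgroups. -/
theorem exists_fixed_of_minimal {G : Type u} [Group G] [Finite G] (hS : SFreeSimple.{u}) (φ : A →* MulAut G)
    (K : Subgroup A) [K.Normal] [Group.IsNilpotent (A ⧸ K)] (hcop : (Nat.card K).Coprime (Nat.card G))
    (hS3 : ¬ Cfsg.Involves (Equiv.Perm (Fin 3)) G) (hns : ¬ Group.IsSolvable G)
    (hmin : ∀ N : Subgroup G, N.Normal → (∀ a, ∀ x ∈ N, φ a x ∈ N) → N = ⊥ ∨ N = ⊤) :
    ∃ g : G, g ≠ 1 ∧ ∀ a, φ a g = g := by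
  haveI : Nontrivial G := by
    by_contra h
    rw [not_nontrivial_iff_subsingleton] at h
    exact hns inferInstance
  obtain ⟨T, -, ⟨hTn, hT1⟩, hTmin⟩ := Finite.exists_le_minimal
    (p := fun N : Subgroup G => N.Normal ∧ N ≠ ⊥) (a := ⊤) ⟨inferInstance, top_ne_bot⟩
  let c : A → Subgroup G := fun a => T.map (φ a).toMonoidHom
  have hcn : ∀ a, (c a).Normal := fun a => hTn.map _ (φ a).surjective
  have hcmin : ∀ a (X : Subgroup G), X.Normal → X ≤ c a → X = ⊥ ∨ X = c a := by
    intro a X hX hle
    by_cases hX1 : X = ⊥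
    · exact Or.inl hX1
    have h1 : X.comap (φ a).toMonoidHom ≠ ⊥ := fun h => hX1 (by
      rw [← Subgroup.map_comap_eq_self_of_surjective (f := (φ a).toMonoidHom) (φ a).surjective X, h,
        Subgroup.map_bot])
    have h2 : X.comap (φ a).toMonoidHom ≤ T :=
      (Subgroup.comap_mono hle).trans (Subgroup.comap_map_eq_self_of_injective (φ a).injective T).le
    refine Or.inr (le_antisymm hle ?_)
    exact Subgroup.map_le_iff_le_comap.2 (hTmin ⟨hX.comap _, h1⟩ h2)
  have hcomm : ∀ a b, c a ≠ c b → ∀ x ∈ c a, ∀ y ∈ c b, x * y = y * x := by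
    intro a b hne x hx y hy
    haveI := hcn a
    haveI := hcn b
    have hdis : c a ⊓ c b = ⊥ := by
      rcases hcmin a (c a ⊓ c b) inferInstance inf_le_left with h | h
      · exact h
      · rcases hcmin b (c a ⊓ c b) inferInstance inf_le_right with h' | h'
        · exact h'
        · exact absurd (h.symm.trans h') hne
    exact Subgroup.commute_of_normal_of_disjoint _ _ (hcn a) (hcn b) (disjoint_iff.2 hdis) x y hx hy
  have hc1 : c 1 = T := by
    show T.map (φ 1).toMonoidHom = T
    rw [map_one]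
    exact Subgroup.map_id T
  have hmapc : ∀ a b x, x ∈ c b → φ a x ∈ c (a * b) := by
    rintro a b _ ⟨t, ht, rfl⟩
    exact ⟨t, ht, by rw [map_mul]; rfl⟩
  have htop : (⨆ a, c a) = ⊤ := by
    refine (hmin _ (by haveI := hcn; exact Subgroup.iSup_normal _) fun a x hx => ?_).resolve_left fun h =>
      hT1 (le_bot_iff.1 (h ▸ hc1 ▸ le_iSup c 1))
    have : (⨆ b, c b).map (φ a).toMonoidHom ≤ ⨆ b, c b := by
      rw [Subgroup.map_iSup]
      refine iSup_le fun b => le_trans ?_ (le_iSup c (a * b))
      rintro _ ⟨y, hy, rfl⟩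
      exact hmapc a b y hy
    exact this ⟨x, hx, rfl⟩
  have hTc : ∀ a, c a ≠ T → ∀ x ∈ T, ∀ y ∈ c a, x * y = y * x := fun a hne x hx y hy =>
    hcomm 1 a (by rw [hc1]; exact Ne.symm hne) x (hc1.ge hx) y hy
  have hna : ¬ IsMulCommutative T := fun hab => hns (by
    have hall : ∀ a b, ∀ x ∈ c a, ∀ y ∈ c b, x * y = y * x := by
      intro a b x hx y hy
      by_cases h : c a = c b
      · obtain ⟨s, hs, rfl⟩ := hx
        obtain ⟨t, ht, rfl⟩ := h ▸ hy
        rw [← map_mul, ← map_mul]
        exact congrArg (φ a).toMonoidHom (congrArg Subtype.val (mul_comm' (⟨s, hs⟩ : T) ⟨t, ht⟩))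
      · exact hcomm a b h x hx y hy
    have hz : ⊤ ≤ Subgroup.center G := by
      rw [← htop]
      refine iSup_le fun a x hx => Subgroup.mem_center_iff.2 fun y => ?_
      have : (⨆ b, c b) ≤ Subgroup.centralizer ({x} : Set G) := iSup_le fun b z hz =>
        Subgroup.mem_centralizer_singleton_iff.2 (hall b a z hz x hx)
      exact Subgroup.mem_centralizer_singleton_iff.1 (this (htop.ge (Subgroup.mem_top y)))
    exact Group.isSolvable_of_comm fun x y => (Subgroup.mem_center_iff.1 (hz (Subgroup.mem_top y)) x))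
  haveI : Nontrivial T := T.nontrivial_iff_ne_bot.2 hT1
  haveI : IsSimpleGroup T := ⟨fun N hN => by
    have hN' : (N.map T.subtype).Normal := by
      rw [← Subgroup.normalizer_eq_top_iff, ← top_le_iff, ← htop]
      refine iSup_le fun a => ?_
      by_cases h : c a = T
      · rw [h]
        have h2 : (Subgroup.normalizer (N : Set T)).map T.subtype ≤
            Subgroup.normalizer ((N.map T.subtype : Subgroup G) : Set G) := Subgroup.le_normalizer_map _
        refine le_trans ?_ h2
        rw [Subgroup.normalizer_eq_top, ← MonoidHom.range_eq_map, Subgroup.range_subtype]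
      · refine fun y hy => Subgroup.centralizer_le_normalizer _ (Subgroup.mem_centralizer_iff.2 ?_)
        rintro _ ⟨x, -, rfl⟩
        exact hTc a h _ x.2 y hy
    rcases eq_or_ne N ⊥ with h | h
    · exact Or.inl h
    have h2 := hTmin ⟨hN', fun e => h ((Subgroup.map_eq_bot_iff_of_injective _ T.subtype_injective).1 e)⟩
      (Subgroup.map_subtype_le N)
    exact Or.inr (eq_top_iff.2 fun x _ => by obtain ⟨y, hy, e⟩ := h2 x.2; rwa [← Subtype.ext e])⟩
  have hZ : Subgroup.center T = ⊥ :=
    (Subgroup.Normal.eq_bot_or_eq_top inferInstance).resolve_right fun h => hna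
      ⟨⟨fun x y => (Subgroup.mem_center_iff.1 (h.ge (Subgroup.mem_top y)) x)⟩⟩
  -- the stabiliser of `T`
  let S : Subgroup A :=
    { carrier := {a | c a = T}
      one_mem' := hc1
      mul_mem' := fun {a b} ha hb => by
        show T.map (φ (a * b)).toMonoidHom = T
        conv_rhs => rw [← ha]; simp only [c]; rw [← hb]
        rw [Subgroup.map_map, map_mul]
        rfl
      inv_mem' := fun {a} ha => by
        show T.map (φ a⁻¹).toMonoidHom = T
        conv_lhs => rw [← ha]; simp only [c]
        rw [Subgroup.map_map]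
        convert Subgroup.map_id T using 2
        exact MonoidHom.ext fun x => inv_apply_apply φ a x }
  have hSinv : ∀ (a : S), ∀ x ∈ T, (φ.comp S.subtype) a x ∈ T := fun a x hx => a.2.le ⟨x, hx, rfl⟩
  set ψ := resAut (φ.comp S.subtype) T hSinv
  set KB := (K.subgroupOf S).map ψ.rangeRestrict with hKB
  haveI : KB.Normal := Subgroup.Normal.map inferInstance _ ψ.rangeRestrict_surjective
  haveI : Group.IsNilpotent (ψ.range ⧸ KB) := by
    haveI : Group.IsNilpotent (S ⧸ K.subgroupOf S) := Carter.isNilpotent_of_injective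
      (QuotientGroup.map (K.subgroupOf S) K S.subtype fun x hx => hx) (by
        rw [injective_iff_map_eq_one]
        intro y hy
        induction y using QuotientGroup.induction_on with
        | _ x => exact (QuotientGroup.eq_one_iff _).2 ((QuotientGroup.eq_one_iff (x : A)).1 hy))
    exact Group.nilpotent_of_surjective
      (QuotientGroup.map (K.subgroupOf S) KB ψ.rangeRestrict (Subgroup.le_comap_map _ _))
      fun y => by
        obtain ⟨x, rfl⟩ := QuotientGroup.mk'_surjective KB y
        obtain ⟨s, rfl⟩ := ψ.rangeRestrict_surjective x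
        exact ⟨QuotientGroup.mk' _ s, rfl⟩
  have hcopT : (Nat.card KB).Coprime (Nat.card T) := by
    refine ((hcop.coprime_dvd_left ?_).coprime_dvd_right (Subgroup.card_subgroup_dvd_card T))
    refine (Subgroup.card_map_dvd _ _).trans ?_
    rw [← Subgroup.card_map_of_injective S.subtype_injective, Subgroup.subgroupOf_map_subtype]
    exact Subgroup.card_dvd_of_le inf_le_left
  obtain ⟨⟨x, hxT⟩, hx1, hxfix⟩ := fixed_of_isFixOut
    (fixOut_of_target (hS T hna (free_subgroup T hS3))) hZ ψ.range KB hcopT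
  have hxS : ∀ a ∈ S, φ a x = x := fun a ha => congrArg Subtype.val (hxfix _ ⟨⟨a, ha⟩, rfl⟩)
  -- the product of the orbit
  classical
  set O := Set.range fun a => φ a x with hO
  have hOc : ∀ y ∈ O, ∀ z ∈ O, y * z = z * y := by
    rintro _ ⟨a, rfl⟩ _ ⟨b, rfl⟩
    by_cases h : c a = c b
    · have hab : a⁻¹ * b ∈ S := by
        show T.map (φ (a⁻¹ * b)).toMonoidHom = T
        rw [map_mul, show ((φ a⁻¹ * φ b : MulAut G)).toMonoidHom = (φ a⁻¹).toMonoidHom.comp (φ b).toMonoidHom
          from rfl, ← Subgroup.map_map, show T.map (φ b).toMonoidHom = c a from h.symm]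
        show (T.map (φ a).toMonoidHom).map _ = T
        rw [Subgroup.map_map]
        convert Subgroup.map_id T using 2
        exact MonoidHom.ext fun x => inv_apply_apply φ a x
      have e : φ b x = φ a x := by
        conv_rhs => rw [← hxS _ hab]
        rw [map_mul, MulAut.mul_apply, apply_inv_apply]
      simp only [e]
    · exact hcomm a b h _ ⟨x, hxT, rfl⟩ _ ⟨x, hxT, rfl⟩
  haveI : IsMulCommutative (Subgroup.closure O) := Subgroup.isMulCommutative_closure hOc
  letI : CommGroup (Subgroup.closure O) := { (inferInstance : Group (Subgroup.closure O)) with mul_comm := mul_comm' }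
  have hinv : ∀ a, ∀ y ∈ O, φ a y ∈ O := by
    rintro a _ ⟨b, rfl⟩
    exact ⟨a * b, by simp [MulAut.mul_apply]⟩
  haveI : Fintype O := Fintype.ofFinite O
  let ι : O → Subgroup.closure O := fun y => ⟨y, Subgroup.subset_closure y.2⟩
  refine ⟨((∏ y, ι y : Subgroup.closure O) : G), fun h => hx1 ?_, fun a => ?_⟩
  · let o : O := ⟨x, 1, show φ 1 x = x by rw [map_one]; rfl⟩
    rw [← Finset.mul_prod_erase Finset.univ ι (Finset.mem_univ o), Subgroup.coe_mul] at h
    have hD : ((∏ y ∈ Finset.univ.erase o, ι y : Subgroup.closure O) : G) ∈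
        Subgroup.centralizer (T : Set G) := by
      refine Subgroup.mem_comap.1 (Subgroup.prod_mem ((Subgroup.centralizer (T : Set G)).comap
        (Subgroup.closure O).subtype) fun y hy => ?_)
      obtain ⟨⟨_, b, rfl⟩, rfl⟩ := (⟨y, rfl⟩ : ∃ z, z = y)
      refine Subgroup.mem_centralizer_iff.2 fun t ht => hTc b (fun hb => ?_) t ht _ ⟨x, hxT, rfl⟩
      exact (Finset.mem_erase.1 hy).1 (Subtype.ext (hxS b hb))
    have hxz : (⟨x, hxT⟩ : T) ∈ Subgroup.center T := Subgroup.mem_center_iff.2 fun t => Subtype.ext (by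
      have h1 : (x : G) = ((∏ y ∈ Finset.univ.erase o, ι y : Subgroup.closure O) : G)⁻¹ := eq_inv_of_mul_eq_one_left h
      show (t : G) * x = x * t
      rw [h1]
      exact Subgroup.mem_centralizer_iff.1 (inv_mem hD) _ t.2)
    rw [hZ, Subgroup.mem_bot] at hxz
    exact hxz
  · let σ : Subgroup.closure O →* Subgroup.closure O :=
      ((φ a).toMonoidHom.comp (Subgroup.closure O).subtype).codRestrict _ fun y => by
        have : (Subgroup.closure O).map (φ a).toMonoidHom ≤ Subgroup.closure O := by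
          rw [MonoidHom.map_closure]
          exact Subgroup.closure_mono (Set.image_subset_iff.2 fun y hy => hinv a y hy)
        exact this ⟨y, y.2, rfl⟩
    let e : O ≃ O :=
      { toFun := fun y => ⟨φ a y, hinv a _ y.2⟩
        invFun := fun y => ⟨φ a⁻¹ y, hinv a⁻¹ _ y.2⟩
        left_inv := fun y => Subtype.ext (inv_apply_apply φ a y)
        right_inv := fun y => Subtype.ext (apply_inv_apply φ a y) }
    show ((σ (∏ y, ι y) : Subgroup.closure O) : G) = _
    rw [map_prod]
    exact congrArg Subtype.val (Fintype.prod_equiv e _ _ fun y => rfl)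

/-- Solubility, for all groups of a given universe. -/
theorem solvable_of_fpf (hS : SFreeSimple.{u}) (K H : Subgroup A) [K.Normal] (hnil : Group.IsNilpotent H)
    (hKH : K ⊔ H = ⊤) :
    ∀ (G : Type u) [Group G] [Finite G] (φ : A →* MulAut G), (∀ g : G, (∀ a, φ a g = g) → g = 1) →
      ¬ Cfsg.Involves (Equiv.Perm (Fin 3)) G → (Nat.card K).Coprime (Nat.card G) → Group.IsSolvable G := by
  haveI : Group.IsNilpotent (A ⧸ K) := by
    haveI := hnil
    refine Group.nilpotent_of_surjective ((QuotientGroup.mk' K).comp H.subtype) fun y => ?_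
    obtain ⟨a, rfl⟩ := QuotientGroup.mk'_surjective K y
    obtain ⟨k, hk, h, hh, rfl⟩ := Subgroup.mem_sup_of_normal_left.1 (hKH.ge (Subgroup.mem_top a))
    refine ⟨⟨h, hh⟩, ?_⟩
    rw [map_mul, show QuotientGroup.mk' K k = 1 from (QuotientGroup.eq_one_iff k).2 hk, one_mul]
    rfl
  suffices ∀ n, ∀ (G : Type u) [Group G] [Finite G] (φ : A →* MulAut G), Nat.card G = n →
      (∀ g : G, (∀ a, φ a g = g) → g = 1) → ¬ Cfsg.Involves (Equiv.Perm (Fin 3)) G →
      (Nat.card K).Coprime (Nat.card G) → Group.IsSolvable G from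
    fun G _ _ φ => this _ G φ rfl
  intro n
  induction n using Nat.strong_induction_on with
  | _ n ih =>
    intro G _ _ φ hn hfpf hS3 hcop
    by_contra hns
    by_cases hmin : ∀ N : Subgroup G, N.Normal → (∀ a, ∀ x ∈ N, φ a x ∈ N) → N = ⊥ ∨ N = ⊤
    · obtain ⟨g, hg1, hg⟩ := exists_fixed_of_minimal hS φ K hcop hS3 hns hmin
      exact hg1 (hfpf g hg)
    push Not at hmin
    obtain ⟨N, hNn, hN, hN1, hN2⟩ := hmin
    have hltN : Nat.card N < n := hn ▸ (Subgroup.card_le_card_group N).lt_of_ne fun e =>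
      hN2 ((Subgroup.card_eq_iff_eq_top N).1 e)
    have hsolN : Group.IsSolvable N := ih _ hltN N (resAut φ N hN) rfl
      (fun x hx => Subtype.ext (hfpf x fun a => congrArg Subtype.val (hx a)))
      (free_subgroup N hS3) (hcop.coprime_dvd_right (Subgroup.card_subgroup_dvd_card N))
    have hltQ : Nat.card (G ⧸ N) < n := by
      rw [← hn, N.card_eq_card_quotient_mul_card_subgroup]
      exact lt_mul_of_one_lt_right Nat.card_pos (Subgroup.one_lt_card_iff_ne_bot N |>.2 hN1)
    have hsolQ : Group.IsSolvable (G ⧸ N) := ih _ hltQ (G ⧸ N) (quotAut φ N hN) rfl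
      (fun y hy => by
        obtain ⟨g, rfl⟩ := QuotientGroup.mk_surjective y
        exact (QuotientGroup.eq_one_iff g).2 (quot_fpf φ hnil hKH hcop hfpf hsolN hN
          fun a => QuotientGroup.eq.1 (hy a).symm))
      (free_quotient N hS3) (hcop.coprime_dvd_right (Subgroup.card_quotient_dvd_card N))
    exact hns (Group.isSolvable_of_ker_le_range N.subtype (QuotientGroup.mk' N)
      (by rw [QuotientGroup.ker_mk', Subgroup.range_subtype]))

/-- S4041 from the list of simple groups without a section `S₃`. -/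
theorem S4041_of {G : Type u} {A : Type v} [Group G] [Finite G] [Group A] [Finite A] (hS : SFreeSimple.{u})
    (φ : A →* MulAut G) (hfpf : ∀ g : G, (∀ a : A, φ a g = g) → g = 1)
    (hS3 : ¬ Cfsg.Involves (Equiv.Perm (Fin 3)) G)
    (hHall : ∃ H : Subgroup A, Cfsg.IsPiHall {r : ℕ | r.Prime ∧ r ∣ Nat.card G} H ∧ Group.IsNilpotent H)
    (hcomp : ∃ K : Subgroup A, K.Normal ∧ (∀ r : ℕ, r.Prime → r ∣ Nat.card K → ¬ r ∣ Nat.card G) ∧
      ∀ r : ℕ, r.Prime → r ∣ K.index → r ∣ Nat.card G) :
    Group.IsSolvable G := by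
  obtain ⟨H, ⟨-, hH⟩, hnil⟩ := hHall
  obtain ⟨K, hKn, hK, hKi⟩ := hcomp
  refine solvable_of_fpf hS K H hnil ?_ G φ hfpf hS3 (Nat.coprime_of_dvd fun r hr h1 h2 => hK r hr h1 h2)
  rw [← Subgroup.index_eq_one]
  by_contra h
  obtain ⟨r, hr, hrd⟩ := Nat.exists_prime_and_dvd h
  exact hH r hr ⟨hr, hKi r hr (hrd.trans (Subgroup.index_dvd_of_le le_sup_left))⟩
    (hrd.trans (Subgroup.index_dvd_of_le le_sup_right))

end Cfsg.Agent.FpfS3Free
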